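import Cfsg.Agent.H672.Four.Interface
import Cfsg.Agent.H692.RealAct
import Cfsg.Agent.S0860
import Cfsg.Agent.SolvableStructure.HallConverse

/-!
# `FactFour` (helper334, task 2426 for S4773): there are at least four orbits of `Aut S` on `Irr S`
-/

set_option autoImplicit false

universe u v

namespace Cfsg.Agent.H334.Four

open Cfsg Cfsg.Agent.H672.Four Cfsg.Agent.Characters

section

variable {S : Type u} [Group S]

/-- the action of `Aut S` on the irreducible characters -/
@[reducible] def actIrr : MulAction (MulAut S) (IrrCharacter S) where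
  smul a χ := ⟨fun s => (χ : S → ℂ) (a⁻¹ s),
    Core.isIrr_comp (a⁻¹ : MulAut S).toMonoidHom (a⁻¹ : MulAut S).surjective χ.2⟩
  one_smul χ := by
    apply Subtype.ext
    funext s
    show (χ : S → ℂ) ((1 : MulAut S)⁻¹ s) = (χ : S → ℂ) s
    rw [inv_one]; rfl
  mul_smul a b χ := by
    apply Subtype.ext
    funext s
    show (χ : S → ℂ) ((a * b)⁻¹ s) = (χ : S → ℂ) (b⁻¹ (a⁻¹ s))
    rw [mul_inv_rev]; rfl

/-- the action of `Aut S` on the conjugacy classes -/
@[reducible] def actCl : MulAction (MulAut S) (ConjClasses S) where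
  smul a c := ConjClasses.map a.toMonoidHom c
  one_smul c := by
    induction c using Quotient.inductionOn with
    | h s => rfl
  mul_smul a b c := by
    induction c using Quotient.inductionOn with
    | h s => rfl

theorem compat (a : MulAut S) (χ : IrrCharacter S) (g g' : S)
    (h : ConjClasses.mk g' = (actCl.toSMul.smul a (ConjClasses.mk g) : ConjClasses S)) :
    ((actIrr.toSMul.smul a χ : IrrCharacter S) : S → ℂ) g' = (χ : S → ℂ) g := by
  have h1 : ConjClasses.mk g' = ConjClasses.mk (a g) := h
  have h2 : IsConj (a g) g' := (ConjClasses.mk_eq_mk_iff_isConj.1 h1).symm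
  obtain ⟨c, hc⟩ := isConj_iff.1 h2
  show (χ : S → ℂ) (a⁻¹ g') = (χ : S → ℂ) g
  rw [← hc, map_mul, map_mul, map_inv]
  have h3 : a⁻¹ (a g) = g := MulAut.inv_apply_self S a g
  rw [h3]
  exact Core.isIrr_isClassFunction χ.2 g (a⁻¹ c)

theorem card_orbits [Finite S] :
    Nat.card (@MulAction.orbitRel.Quotient (MulAut S) (IrrCharacter S) _ actIrr) =
      Nat.card (@MulAction.orbitRel.Quotient (MulAut S) (ConjClasses S) _ actCl) := by
  let := actIrr (S := S)
  let := actCl (S := S)
  have : Finite (IrrCharacter S) := Core.finite_irr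
  apply H692.RealAct.card_orbits_eq
  intro a
  exact S0860.result compat a

/-- the order of the elements of a class -/
noncomputable def ordCl : ConjClasses S → ℕ := Quotient.lift orderOf fun a b h => by
  obtain ⟨c, hc⟩ := isConj_iff.1 h
  rw [← hc]
  exact (MulEquiv.orderOf_eq (MulAut.conj c) a).symm

/-- the order of the elements of an orbit of classes -/
noncomputable def ordOrb : @MulAction.orbitRel.Quotient (MulAut S) (ConjClasses S) _ actCl → ℕ :=
  Quotient.lift ordCl fun c d h => by
    obtain ⟨a, rfl⟩ := h
    induction d using Quotient.inductionOn with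
    | h s => exact MulEquiv.orderOf_eq a s

theorem four_le [Finite S] [IsSimpleGroup S] (hna : ¬ IsMulCommutative S) :
    4 ≤ Nat.card (@MulAction.orbitRel.Quotient (MulAut S) (IrrCharacter S) _ actIrr) := by
  classical
  rw [card_orbits]
  have h3 : 3 ≤ (Nat.card S).primeFactors.card := by
    by_contra hlt
    have hsol := SolvableStructure.HallConverse.isSolvable_of_no_three_primes (G := S) (by omega)
    exact hna ⟨⟨IsSimpleGroup.comm_iff_isSolvable.2 hsol⟩⟩
  have hfin : Finite (@MulAction.orbitRel.Quotient (MulAut S) (ConjClasses S) _ actCl) := Quotient.finite _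
  have := Fintype.ofFinite (@MulAction.orbitRel.Quotient (MulAut S) (ConjClasses S) _ actCl)
  rw [Nat.card_eq_fintype_card]
  have h1 : insert 1 (Nat.card S).primeFactors ⊆
      Finset.univ.image (ordOrb : @MulAction.orbitRel.Quotient (MulAut S) (ConjClasses S) _ actCl → ℕ) := by
    intro m hm
    rw [Finset.mem_image]
    rcases Finset.mem_insert.1 hm with rfl | hm
    · exact ⟨Quotient.mk _ (ConjClasses.mk 1), Finset.mem_univ _, orderOf_one⟩
    · have := Fact.mk (Nat.prime_of_mem_primeFactors hm)
      obtain ⟨x, hx⟩ := exists_prime_orderOf_dvd_card' (G := S) m (Nat.dvd_of_mem_primeFactors hm)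
      exact ⟨Quotient.mk _ (ConjClasses.mk x), Finset.mem_univ _, hx⟩
  have h2 := Finset.card_le_card h1
  rw [Finset.card_insert_of_notMem (fun h => Nat.not_prime_one (Nat.prime_of_mem_primeFactors h))] at h2
  exact (by omega : 4 ≤ _).trans (h2.trans Finset.card_image_le)

end

/-- **`FactFour`.** -/
theorem factFour : FactFour.{u} := by
  classical
  intro S _ _ _ hna φ
  have h4 := four_le hna
  let act := actIrr (S := S)
  have : Finite (IrrCharacter S) := Core.finite_irr
  have hfin : Finite (MulAction.orbitRel.Quotient (MulAut S) (IrrCharacter S)) := Quotient.finite _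
  have := Fintype.ofFinite (MulAction.orbitRel.Quotient (MulAut S) (IrrCharacter S))
  rw [Nat.card_eq_fintype_card] at h4
  set q₀ : MulAction.orbitRel.Quotient (MulAut S) (IrrCharacter S) := Quotient.mk _ φ with hq₀
  have h3 : 3 ≤ (Finset.univ.erase q₀).card := by
    rw [Finset.card_erase_of_mem (Finset.mem_univ _), Finset.card_univ]
    omega
  obtain ⟨t, ht, htc⟩ := Finset.exists_subset_card_eq h3
  let e := (t.equivFinOfCardEq htc).symm
  have hout : ∀ q : MulAction.orbitRel.Quotient (MulAut S) (IrrCharacter S), Quotient.mk _ (Quotient.out q) = q :=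
    fun q => Quotient.out_eq q
  -- different orbits
  have key : ∀ χ η : IrrCharacter S, (Quotient.mk _ χ : MulAction.orbitRel.Quotient (MulAut S) (IrrCharacter S)) ≠
      Quotient.mk _ η → AutNe χ η := by
    intro χ η h a ha
    apply h
    apply Quotient.sound
    refine ⟨a, ?_⟩
    apply Subtype.ext
    funext s
    show (η : S → ℂ) (a⁻¹ s) = (χ : S → ℂ) s
    rw [← ha]
    show (χ : S → ℂ) (a (a⁻¹ s)) = (χ : S → ℂ) s
    rw [MulAut.apply_inv_self]
  have hne : ∀ i, (e i : MulAction.orbitRel.Quotient (MulAut S) (IrrCharacter S)) ≠ q₀ := fun i =>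
    (Finset.mem_erase.1 (ht (e i).2)).1
  refine ⟨fun i => Quotient.out (e i : MulAction.orbitRel.Quotient (MulAut S) (IrrCharacter S)), ?_, ?_, ?_⟩
  · intro i
    apply key
    rw [hout]
    exact hne i
  · intro i
    apply key
    rw [hout]
    exact (hne i).symm
  · intro i j hij
    apply key
    rw [hout, hout]
    intro h
    exact hij (e.injective (Subtype.ext h))

end Cfsg.Agent.H334.Four
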