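import Cfsg.Agent.Lib.BenderMaximal
import Cfsg.Agent.Lib.ClassTwoDuality

/-!
# The coprime layer (helper334, task 2418 for S4773)

Let `I` be normal in the finite group `Y` with `Y / I` solvable, all prime divisors of `|I|` dividing `n`, and all subgroups of `Y`
of order prime to `n` cyclic.  Then there are `I ≤ K ≤ E`, `K` normal with all prime divisors of `|K|` dividing `n`, and a linear
character `lam` of `E` with kernel `K`, such that all elements of prime order not dividing `n` are in `E`.
-/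

set_option autoImplicit false

namespace Cfsg.Agent.H334.Four

open Subgroup

/-- `|K|` has only prime divisors of `n`. -/
def PiN {Y : Type*} [Group Y] (n : ℕ) (K : Subgroup Y) : Prop := ∀ p : ℕ, p.Prime → p ∣ Nat.card K → p ∣ n

theorem card_sup_dvd {G : Type*} [Group G] [Finite G] (H K : Subgroup G) [K.Normal] :
    Nat.card ↥(H ⊔ K) ∣ Nat.card H * Nat.card K := by
  have h1 := Subgroup.relIndex_mul_relIndex (⊥ : Subgroup G) K (H ⊔ K) bot_le le_sup_right
  rw [Subgroup.relIndex_bot_left, Subgroup.relIndex_bot_left, Subgroup.relIndex_sup_right] at h1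
  rw [← h1, mul_comm]
  exact mul_dvd_mul_right (Subgroup.relIndex_dvd_card K H) _

theorem card_comap_mk {Y : Type*} [Group Y] [Finite Y] (K : Subgroup Y) [K.Normal] (M : Subgroup (Y ⧸ K)) :
    Nat.card (M.comap (QuotientGroup.mk' K)) = Nat.card K * Nat.card M := by
  have h1 : (M.comap (QuotientGroup.mk' K)).index = M.index :=
    Subgroup.index_comap_of_surjective _ (QuotientGroup.mk'_surjective K)
  have h2 := Subgroup.card_mul_index (M.comap (QuotientGroup.mk' K))
  have h3 := Subgroup.card_mul_index M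
  have h4 := Subgroup.card_mul_index K
  have h5 : K.index = Nat.card (Y ⧸ K) := rfl
  rw [h1, ← h4, h5, ← h3, ← mul_assoc] at h2
  exact Nat.eq_of_mul_eq_mul_right (Nat.pos_of_ne_zero M.index_ne_zero_of_finite) h2

/-- Every subgroup of order prime to `n` of `Y / K` is cyclic. -/
theorem cyclic_quot {Y : Type*} [Group Y] [Finite Y] {n : ℕ} (K : Subgroup Y) [K.Normal] (hK : PiN n K)
    (hcc : ∀ A : Subgroup Y, (Nat.card A).Coprime n → IsCyclic A) (M : Subgroup (Y ⧸ K))
    (hM : (Nat.card M).Coprime n) : IsCyclic M := by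
  set P := M.comap (QuotientGroup.mk' K) with hP
  have hKP : K ≤ P := by
    intro x hx
    rw [hP, Subgroup.mem_comap, QuotientGroup.mk'_apply, (QuotientGroup.eq_one_iff x).2 hx]
    exact M.one_mem
  have hcard : Nat.card P = Nat.card K * Nat.card M := card_comap_mk K M
  have hidx : (K.subgroupOf P).index = Nat.card M := by
    have h1 := Subgroup.card_mul_index (K.subgroupOf P)
    rw [Nat.card_congr (Subgroup.subgroupOfEquivOfLe hKP).toEquiv, hcard] at h1
    exact Nat.eq_of_mul_eq_mul_left Nat.card_pos h1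
  have hcop : (Nat.card (K.subgroupOf P)).Coprime (K.subgroupOf P).index := by
    rw [hidx, Nat.card_congr (Subgroup.subgroupOfEquivOfLe hKP).toEquiv]
    apply Nat.Coprime.symm
    rw [Nat.coprime_iff_gcd_eq_one]
    by_contra hne
    obtain ⟨p, hp, hd⟩ := Nat.exists_prime_and_dvd hne
    have h1 := hd.trans (Nat.gcd_dvd_left _ _)
    have h2 := hK p hp (hd.trans (Nat.gcd_dvd_right _ _))
    exact hp.one_lt.ne' (Nat.dvd_one.1 (hM ▸ Nat.dvd_gcd h1 h2))
  obtain ⟨C, hC⟩ := Subgroup.exists_right_complement'_of_coprime hcop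
  have hCc : Nat.card C = Nat.card M := by
    rw [← hidx]
    exact hC.symm.index_eq_card.symm ▸ rfl
  have hcycC : IsCyclic C := by
    have h1 : IsCyclic (C.map P.subtype) := by
      apply hcc
      rw [Nat.card_congr (C.equivMapOfInjective P.subtype P.subtype_injective).toEquiv.symm, hCc]
      exact hM
    exact isCyclic_of_surjective (C.equivMapOfInjective P.subtype P.subtype_injective).symm
      (C.equivMapOfInjective P.subtype P.subtype_injective).symm.surjective
  -- `C → M` is onto
  let f : P →* M := (QuotientGroup.mk' K).subgroupComap M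
  have hker : f.ker = K.subgroupOf P := by
    ext x
    rw [MonoidHom.mem_ker, Subgroup.mem_subgroupOf, ← QuotientGroup.eq_one_iff]
    exact Subtype.ext_iff
  let g : C →* M := f.comp C.subtype
  have hinj : Function.Injective g := by
    rw [← MonoidHom.ker_eq_bot_iff, eq_bot_iff]
    intro x hx
    have h1 : (x : P) ∈ K.subgroupOf P := by
      rw [← hker]
      exact hx
    have h2 : (x : P) ∈ (K.subgroupOf P) ⊓ C := ⟨h1, x.2⟩
    rw [hC.disjoint.eq_bot, Subgroup.mem_bot] at h2
    exact Subgroup.mem_bot.2 (Subtype.ext h2)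
  have hsur : Function.Surjective g := by
    have := Fintype.ofFinite C
    have := Fintype.ofFinite M
    exact (Fintype.bijective_iff_injective_and_card g).2 ⟨hinj, by
      rw [← Nat.card_eq_fintype_card, ← Nat.card_eq_fintype_card, hCc]⟩ |>.2
  exact isCyclic_of_surjective g hsur

theorem exists_layer {Y : Type*} [Group Y] [Finite Y] (I : Subgroup Y) [I.Normal] (n : ℕ) (hI : PiN n I)
    (hsol : Group.IsSolvable (Y ⧸ I)) (hcc : ∀ A : Subgroup Y, (Nat.card A).Coprime n → IsCyclic A) :
    ∃ (K E : Subgroup Y) (lam : E →* ℂ), I ≤ K ∧ K ≤ E ∧ PiN n K ∧ (∀ e : E, lam e = 1 ↔ (e : Y) ∈ K) ∧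
      (∀ e ∈ E, e ∉ K → ∃ m : ℕ, (orderOf (e ^ m)).Prime ∧ ¬ orderOf (e ^ m) ∣ n) ∧
      ∀ a : Y, (orderOf a).Prime → ¬ orderOf a ∣ n → a ∈ E := by
  classical
  obtain ⟨K, ⟨hIK, hKn, hKpi⟩, hmax⟩ := (Set.toFinite {K : Subgroup Y | I ≤ K ∧ K.Normal ∧ PiN n K}).exists_maximalFor
    (fun K : Subgroup Y => K) _ ⟨I, le_rfl, inferInstance, hI⟩
  have hsK : Group.IsSolvable (Y ⧸ K) := by
    let f : Y ⧸ I →* Y ⧸ K := QuotientGroup.map I K (MonoidHom.id Y) hIK
    have hf : Function.Surjective f := by
      intro x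
      obtain ⟨y, rfl⟩ := QuotientGroup.mk'_surjective K x
      exact ⟨QuotientGroup.mk' I y, rfl⟩
    exact Group.isSolvable_of_surjective hf
  have hFn : (Cfsg.fittingSubgroup (Y ⧸ K)).Normal := Lib.Cores.fittingSubgroup_normal
  set F := Cfsg.fittingSubgroup (Y ⧸ K) with hF
  -- the order of `F` is prime to `n`
  have hFc : ∀ p : ℕ, p.Prime → p ∣ Nat.card F → ¬ p ∣ n := by
    intro p hp hd hpn
    have := Fact.mk hp
    obtain ⟨P⟩ : Nonempty (Sylow p F) := inferInstance
    have hP1 : IsPGroup p ((P : Subgroup F).map F.subtype) := P.2.map _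
    have hle := Lib.BenderMaximal.le_pCore_of_le_fittingSubgroup hP1 (Subgroup.map_subtype_le _)
    have hcore : Cfsg.pCore p (Y ⧸ K) = ⊥ := by
      have hOn : (Cfsg.pCore p (Y ⧸ K)).Normal := inferInstance
      have hmem : (Cfsg.pCore p (Y ⧸ K)).comap (QuotientGroup.mk' K) ∈ {K : Subgroup Y | I ≤ K ∧ K.Normal ∧ PiN n K} := by
        refine ⟨?_, inferInstance, ?_⟩
        · intro x hx
          rw [Subgroup.mem_comap, QuotientGroup.mk'_apply, (QuotientGroup.eq_one_iff x).2 (hIK hx)]
          exact Subgroup.one_mem _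
        · intro q hq hqd
          rw [card_comap_mk] at hqd
          rcases (Nat.Prime.dvd_mul hq).1 hqd with h | h
          · exact hKpi q hq h
          · obtain ⟨k, hk⟩ := (IsPGroup.iff_card (p := p)).1 (Lib.Cores.pCore_isPGroup (G := Y ⧸ K) p)
            rw [hk] at h
            rw [(Nat.prime_dvd_prime_iff_eq hq hp).1 (hq.dvd_of_dvd_pow h)]
            exact hpn
      have h2 := hmax hmem (by
        intro x hx
        rw [Subgroup.mem_comap, QuotientGroup.mk'_apply, (QuotientGroup.eq_one_iff x).2 hx]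
        exact Subgroup.one_mem _)
      rw [eq_bot_iff]
      intro x hx
      obtain ⟨y, rfl⟩ := QuotientGroup.mk'_surjective K x
      exact (QuotientGroup.eq_one_iff y).2 (h2 hx)
    rw [hcore, le_bot_iff, Subgroup.map_eq_bot_iff_of_injective _ F.subtype_injective] at hle
    have h3 := P.dvd_card_of_dvd_card hd
    rw [hle, Subgroup.card_bot] at h3
    exact hp.one_lt.ne' (Nat.dvd_one.1 h3)
  have hcopF : (Nat.card F).Coprime n := Nat.coprime_of_dvd fun p hp h1 h2 => hFc p hp h1 h2
  have hcycF : IsCyclic F := cyclic_quot K hKpi hcc F hcopF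
  have hcentF := Cfsg.Agent.S0044.centralizer_fitting_le (Y ⧸ K) hFn
  obtain ⟨χ, hχ⟩ := Lib.ClassTwoDuality.exists_faithful_char F hcycF
  set E := F.comap (QuotientGroup.mk' K) with hE
  let f : E →* F := (QuotientGroup.mk' K).subgroupComap F
  let lam : E →* ℂ := (Units.coeHom ℂ).comp (χ.comp f)
  refine ⟨K, E, lam, hIK, ?_, hKpi, ?_, ?_, ?_⟩
  · intro x hx
    rw [hE, Subgroup.mem_comap, QuotientGroup.mk'_apply, (QuotientGroup.eq_one_iff x).2 hx]
    exact Subgroup.one_mem _
  · intro e
    constructor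
    · intro h
      have h1 : χ (f e) = 1 := Units.ext h
      have h2 : f e = 1 := hχ (by rw [h1, map_one])
      exact (QuotientGroup.eq_one_iff _).1 (congrArg Subtype.val h2)
    · intro h
      have h1 : f e = 1 := Subtype.ext ((QuotientGroup.eq_one_iff _).2 h)
      show ((χ (f e) : ℂˣ) : ℂ) = 1
      rw [h1, map_one, Units.val_one]
  · intro e he heK
    set x : F := f ⟨e, he⟩ with hx
    have hx1 : x ≠ 1 := fun h => heK ((QuotientGroup.eq_one_iff _).1 (congrArg Subtype.val h))
    obtain ⟨p, hp, hd⟩ := Nat.exists_prime_and_dvd (fun h => hx1 (orderOf_eq_one_iff.1 h))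
    have hpn : ¬ p ∣ n := hFc p hp (hd.trans (orderOf_dvd_natCard x))
    have hde : p ∣ orderOf e := by
      have h1 : orderOf x ∣ orderOf (⟨e, he⟩ : E) := orderOf_map_dvd f _
      have h2 : orderOf (⟨e, he⟩ : E) = orderOf e := (Subgroup.orderOf_coe (⟨e, he⟩ : E)).symm
      exact hd.trans (h2 ▸ h1)
    refine ⟨orderOf e / p, ?_⟩
    have h1 : orderOf (e ^ (orderOf e / p)) = p :=
      orderOf_pow_orderOf_div (orderOf_pos e).ne' hde
    rw [h1]
    exact ⟨hp, hpn⟩
  · intro a ha han
    set p := orderOf a with hp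
    have hA : (Nat.card (Subgroup.zpowers (QuotientGroup.mk' K a))).Coprime n := by
      rw [Nat.card_zpowers]
      have h1 : orderOf (QuotientGroup.mk' K a) ∣ p := orderOf_map_dvd _ _
      exact Nat.Coprime.coprime_dvd_left h1 ((Nat.Prime.coprime_iff_not_dvd ha).2 han)
    have hsup : (Nat.card ↥(Subgroup.zpowers (QuotientGroup.mk' K a) ⊔ F)).Coprime n :=
      Nat.Coprime.coprime_dvd_left (card_sup_dvd _ F) (Nat.Coprime.mul_left hA hcopF)
    have hcyc := cyclic_quot K hKpi hcc _ hsup
    rw [hE, Subgroup.mem_comap]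
    apply hcentF
    rw [Subgroup.mem_centralizer_iff]
    intro y hy
    have := hcyc.isMulCommutative
    have hcomm := this.is_comm.comm
      (⟨y, Subgroup.mem_sup_right hy⟩ : ↥(Subgroup.zpowers (QuotientGroup.mk' K a) ⊔ F))
      ⟨QuotientGroup.mk' K a, Subgroup.mem_sup_left (Subgroup.mem_zpowers _)⟩
    exact congrArg Subtype.val hcomm

end Cfsg.Agent.H334.Four
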