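import Mathlib

/-!
# A character sum over fixed points (helper334, task 2418 for S4773)

`sum_fixed_ne_zero_iff` : for a finite group `E` acting on a finite set `X` and a homomorphism `lam : E →* ℂ` the sum
`∑ |Fix_X(e)| lam e` is not 0 iff `lam` is trivial on some point stabilizer.
-/

set_option autoImplicit false

namespace Cfsg.Agent.H334.Four

open MulAction

theorem sum_stab {E : Type*} [Group E] [Fintype E] (H : Subgroup E) (lam : E →* ℂ) [DecidablePred (· ∈ H)]
    [Decidable (∀ e ∈ H, lam e = 1)] :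
    (∑ e : E, if e ∈ H then lam e else 0) = ((if ∀ e ∈ H, lam e = 1 then Fintype.card H else 0 : ℕ) : ℂ) := by
  classical
  have h1 : (∑ e : E, if e ∈ H then lam e else 0) = ∑ e : H, (lam.comp H.subtype) e := by
    rw [← Finset.sum_filter]
    refine Finset.sum_subtype _ (fun x => ?_) _
    simp
  rw [h1, sum_hom_units]
  have h2 : (lam.comp H.subtype = 1) ↔ ∀ e ∈ H, lam e = 1 := by
    constructor
    · intro h e he
      exact DFunLike.congr_fun h ⟨e, he⟩
    · intro h
      ext ⟨e, he⟩
      exact h e he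
  by_cases h3 : ∀ e ∈ H, lam e = 1
  · rw [if_pos (h2.2 h3), if_pos h3]
  · rw [if_neg (fun h => h3 (h2.1 h)), if_neg h3]

theorem sum_fixed {E X : Type*} [Group E] [Fintype E] [Fintype X] [MulAction E X] (lam : E →* ℂ) [DecidableEq X]
    [∀ x : X, Decidable (∀ e ∈ stabilizer E x, lam e = 1)] [∀ x : X, Fintype (stabilizer E x)] :
    (∑ e : E, (Nat.card (fixedBy X e) : ℂ) * lam e) =
      ((∑ x : X, if ∀ e ∈ stabilizer E x, lam e = 1 then Fintype.card (stabilizer E x) else 0 : ℕ) : ℂ) := by
  classical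
  have h1 : ∀ e : E, (Nat.card (fixedBy X e) : ℂ) * lam e = ∑ x : X, if e ∈ stabilizer E x then lam e else 0 := by
    intro e
    rw [← Finset.sum_filter, Finset.sum_const, nsmul_eq_mul]
    congr 2
    rw [Nat.card_eq_fintype_card]
    exact Fintype.card_subtype _
  rw [Finset.sum_congr rfl fun e _ => h1 e, Finset.sum_comm, Nat.cast_sum]
  refine Finset.sum_congr rfl fun x _ => ?_
  rw [sum_stab (stabilizer E x) lam]
  congr 1
  split_ifs <;> simp only [Fintype.card_eq_nat_card]

theorem sum_fixed_ne_zero_iff {E X : Type*} [Group E] [Fintype E] [Finite X] [MulAction E X] (lam : E →* ℂ) :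
    (∑ e : E, (Nat.card (fixedBy X e) : ℂ) * lam e) ≠ 0 ↔ ∃ x : X, ∀ e ∈ stabilizer E x, lam e = 1 := by
  classical
  have := Fintype.ofFinite X
  rw [sum_fixed, Nat.cast_ne_zero]
  constructor
  · intro h
    by_contra hno
    push Not at hno
    apply h
    refine Finset.sum_eq_zero fun x _ => ?_
    rw [if_neg]
    push Not
    exact hno x
  · rintro ⟨x, hx⟩ h
    have h1 := Finset.sum_eq_zero_iff.1 h x (Finset.mem_univ x)
    rw [if_pos hx] at h1
    exact Fintype.card_ne_zero h1

end Cfsg.Agent.H334.Four
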