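import Cfsg.Prelude.Def_KGroupFacts
import Cfsg.Agent.H334.Four.FactFour
import Cfsg.Agent.H334.Four.Sum
import Cfsg.Agent.H334.Four.Layer

/-!
# An irreducible character fixed by no coprime automorphism (helper334, task 2418 for S4773): the core
-/

set_option autoImplicit false

universe u

namespace Cfsg.Agent.H334.Four

open Cfsg Cfsg.Agent.H672.Four MulAction

theorem moved_of {S : Type u} [Group S] [Finite S]
    (hcc : ∀ A : Subgroup (MulAut S), (Nat.card A).Coprime (Nat.card S) → IsCyclic A)
    (hsol : Group.IsSolvable (Cfsg.Out S)) {s : S} (hs : ES s) : ∃ φ : IrrCharacter S, Moved φ := by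
  classical
  have hfinY : Finite (MulAut S) := Finite.of_injective (fun f : MulAut S => (f : S → S)) DFunLike.coe_injective
  have hInn : (Inn S).Normal := inferInstance
  have hI : PiN (Nat.card S) (Inn S) := by
    intro p hp hd
    exact hd.trans (Subgroup.card_range_dvd _)
  obtain ⟨K, E, lam, hIK, hKE, hK, hlam, hE, hall⟩ := exists_layer (Inn S) (Nat.card S) hI hsol hcc
  let := actIrr (S := S)
  let := actCl (S := S)
  have : Finite (IrrCharacter S) := Characters.Core.finite_irr
  have := Fintype.ofFinite E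
  have hsum : (∑ e : E, (Nat.card (fixedBy (IrrCharacter S) e) : ℂ) * lam e) =
      ∑ e : E, (Nat.card (fixedBy (ConjClasses S) e) : ℂ) * lam e := by
    refine Finset.sum_congr rfl fun e _ => ?_
    have h1 : Nat.card (fixedBy (IrrCharacter S) e) = Nat.card (fixedBy (ConjClasses S) e) :=
      S0860.result compat (e : MulAut S)
    rw [h1]
  -- the class of `s`
  have hcl : ∀ e ∈ stabilizer E (ConjClasses.mk s), lam e = 1 := by
    intro e he
    rw [hlam]
    by_contra heK
    have h1 : ConjClasses.mk ((e : MulAut S) s) = ConjClasses.mk s := he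
    obtain ⟨c, hc⟩ := isConj_iff.1 (ConjClasses.mk_eq_mk_iff_isConj.1 h1)
    set e' : MulAut S := MulAut.conj c * (e : MulAut S) with he'
    have hcI : MulAut.conj c ∈ Inn S := ⟨c, rfl⟩
    have hfix : e' s = s := hc
    have heE' : e' ∈ E := E.mul_mem (hKE (hIK hcI)) e.2
    have heK' : e' ∉ K := by
      intro h
      apply heK
      have h2 := K.mul_mem (K.inv_mem (hIK hcI)) h
      rwa [he', inv_mul_cancel_left] at h2
    obtain ⟨m, hm, hmn⟩ := hE e' heE' heK'
    apply hs (e' ^ m) hm hmn
    have h3 : ∀ k : ℕ, (e' ^ k) s = s := by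
      intro k
      induction k with
      | zero => rfl
      | succ k ih => rw [pow_succ, MulAut.mul_apply, hfix, ih]
    exact h3 m
  have hne := (sum_fixed_ne_zero_iff (X := ConjClasses S) lam).2 ⟨_, hcl⟩
  rw [← hsum] at hne
  obtain ⟨φ, hφ⟩ := (sum_fixed_ne_zero_iff (X := IrrCharacter S) lam).1 hne
  refine ⟨φ, fun a ha han hfix => ?_⟩
  have haE := hall a ha han
  have h1 : (⟨a, haE⟩ : E) ∈ stabilizer E φ := by
    show (a • φ : IrrCharacter S) = φ
    apply Subtype.ext
    funext x
    show (φ : S → ℂ) (a⁻¹ x) = (φ : S → ℂ) x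
    rw [← congrFun hfix (a⁻¹ x)]
    show (φ : S → ℂ) (a (a⁻¹ x)) = (φ : S → ℂ) x
    rw [MulAut.apply_inv_self]
  have h2 := (hlam _).1 (hφ _ h1)
  exact han (hK _ ha (Subgroup.orderOf_dvd_natCard _ h2))

end Cfsg.Agent.H334.Four
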